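import Groth.Agent.AffineNhd.Glue

/-! Affine neighbourhoods of generic points of components of quasi-separated schemes. -/

set_option autoImplicit false
universe u

open CategoryTheory AlgebraicGeometry TopologicalSpace

namespace Groth.Agent.GenAff

variable {X : Scheme.{u}} [QuasiSeparatedSpace X]

omit [QuasiSeparatedSpace X] in
theorem eq_of_specializes {η z : X} (hη : closure ({η} : Set X) ∈ irreducibleComponents (X : Type u)) (h : z ⤳ η) :
    z = η := by
  have h1 : closure ({η} : Set X) ⊆ closure {z} := closure_minimal (Set.singleton_subset_iff.2 (specializes_iff_mem_closure.1 h)) isClosed_closure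
  have h2 : closure ({z} : Set X) ⊆ closure {η} := hη.2 isIrreducible_singleton.closure h1
  exact (Specializes.antisymm h (specializes_iff_mem_closure.2 (h2 (subset_closure rfl)))).eq

theorem notMem_closure {U : X.Opens} (hU : IsCompact (U : Set X)) {η : X}
    (hη : closure ({η} : Set X) ∈ irreducibleComponents (X : Type u)) (h : η ∉ U) : η ∉ closure (U : Set X) := fun hc => by
  obtain ⟨z, hzU, -, hz⟩ := AffineNhd.exists_specializes_of_mem_closure_diff (P := (⊥ : X.Opens)) hU
    (by simpa using hc)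
  exact h (eq_of_specializes hη hz ▸ hzU)

/-- Disjoint affine neighbourhoods avoiding a given compact open. -/
theorem exists_disjoint_affine {ι : Type*} [Finite ι] (η : ι → X)
    (hη : ∀ i, closure ({η i} : Set X) ∈ irreducibleComponents (X : Type u)) (hinj : Function.Injective η)
    (U₀ : X.Opens) (hU₀ : IsCompact (U₀ : Set X)) (hout : ∀ i, η i ∉ U₀) :
    ∃ U : ι → X.Opens, (∀ i, IsAffineOpen (U i) ∧ η i ∈ U i ∧ Disjoint U₀ (U i)) ∧
      ∀ i j, i ≠ j → Disjoint (U i) (U j) := by
  classical
  have hsep : ∀ i, ∃ V : X.Opens, IsAffineOpen V ∧ η i ∈ V ∧ ∀ j, j ≠ i → η j ∉ V := fun i => by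
    have hopen : IsOpen (⋃ j ∈ {j | j ≠ i}, closure ({η j} : Set X))ᶜ :=
      ((Set.toFinite _).isClosed_biUnion fun _ _ => isClosed_closure).isOpen_compl
    have hmem : η i ∈ (⋃ j ∈ {j | j ≠ i}, closure ({η j} : Set X))ᶜ := fun h => by
      obtain ⟨j, hj, hij⟩ := Set.mem_iUnion₂.1 h
      exact hj (hinj (eq_of_specializes (hη i) (specializes_iff_mem_closure.2 hij)))
    obtain ⟨V, hV, hiV, hle⟩ := exists_isAffineOpen_mem_and_subset (U := ⟨_, hopen⟩) hmem
    exact ⟨V, hV, hiV, fun j hj hjV => hle hjV (Set.mem_iUnion₂.2 ⟨j, hj, subset_closure rfl⟩)⟩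
  choose V hVaff hiV hjV using hsep
  obtain ⟨L, ⟨eL⟩⟩ := Finite.exists_equiv_fin ι
  let W : ι → X.Opens := fun i => ⟨(closure (U₀ : Set X) ∪ ⋃ j ∈ {j | eL j < eL i}, closure (V j : Set X))ᶜ,
    (isClosed_closure.union ((Set.toFinite _).isClosed_biUnion fun _ _ => isClosed_closure)).isOpen_compl⟩
  have hiW : ∀ i, η i ∈ W i := fun i h => by
    rcases h with h | h
    · exact notMem_closure hU₀ (hη i) (hout i) h
    · obtain ⟨j, hj, hij⟩ := Set.mem_iUnion₂.1 h
      exact notMem_closure (hVaff j).isCompact (hη i) (hjV j i fun e => (ne_of_lt (show eL j < eL i from hj)) (congrArg eL e).symm) hij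
  choose U hUaff hiU hUle using fun i =>
    exists_isAffineOpen_mem_and_subset (U := V i ⊓ W i) ⟨hiV i, hiW i⟩
  refine ⟨U, fun i => ⟨hUaff i, hiU i, ?_⟩, fun i j hij => ?_⟩
  · rw [disjoint_iff]
    exact Opens.ext (Set.eq_empty_iff_forall_notMem.2 fun y hy => (hUle i hy.2).2 (Or.inl (subset_closure hy.1)))
  · have key : ∀ i j, eL j < eL i → Disjoint (U i) (U j) := fun i j h => by
      rw [disjoint_iff]
      exact Opens.ext (Set.eq_empty_iff_forall_notMem.2 fun y hy =>
        (hUle i hy.1).2 (Or.inr (Set.mem_iUnion₂.2 ⟨j, h, subset_closure (hUle j hy.2).1⟩)))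
    rcases lt_trichotomy (eL i) (eL j) with h | h | h
    · exact (key j i h).symm
    · exact absurd (eL.injective h) hij
    · exact key i j h

end Groth.Agent.GenAff
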